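import Mathlib
import Cfsg.Agent.Lib.Helper75.LW.Main
import Cfsg.Agent.Lib.Helper75.LW.R2
import Cfsg.Agent.Lib.Helper29.LW.Abs2
import Cfsg.Agent.Lib.Helper29.LW.Abs3
import Cfsg.Agent.Lib.Helper29.LW.Invert
import Cfsg.Agent.Lib.Helper29.LW.Main
import Cfsg.Agent.Lib.Helper29.LW.R1
import Cfsg.Agent.Lib.Helper29.LW.Sharp
import Cfsg.Agent.Lib.Helper38.LW.K3
import Cfsg.Agent.Lib.Helper38.LW.K4
import Cfsg.Agent.Lib.Helper46.LW.Ext
import Cfsg.Agent.Lib.Helper46.LW.Free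
import Cfsg.Agent.Lib.Helper46.LW.NT
import Cfsg.Agent.Lib.Helper46.LW.Transp
import Cfsg.Agent.Lib.Helper59.LW.K5
import Cfsg.Agent.Lib.Helper59.LW.K524
import Cfsg.Agent.Lib.Helper64.LW.Even
import Cfsg.Agent.Lib.Helper64.LW.Odd
import Cfsg.Agent.Lib.Helper64.LW.Par
import Cfsg.Agent.Lib.Helper69.LW.Ker
import Cfsg.Agent.Lib.Helper79.LW.BrH
import Cfsg.Agent.Lib.Helper79.LW.BrT
import Cfsg.Agent.Lib.Helper79.LW.CntH
import Cfsg.Agent.Lib.Helper79.LW.CntT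
import Cfsg.Agent.Lib.Helper79.LW.Mono
import Cfsg.Agent.Lib.Helper84.LW.Abs1a
import Cfsg.Agent.Lib.Helper84.LW.Abs1b

/-!
# S0746 (project LW): all packages, hypothesis-free
-/

set_option autoImplicit false

namespace Cfsg.Agent.Lib.Helper75.LW

universe u

theorem allBrT : PkgBrT.{u} := Cfsg.Agent.Lib.Helper79.LW.pkgBrT
theorem allBrH : PkgBrH.{u} := Cfsg.Agent.Lib.Helper79.LW.pkgBrH
theorem allMono : PkgMono.{u} := Cfsg.Agent.Lib.Helper79.LW.pkgMono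
theorem allCntT : PkgCntT.{u} := Cfsg.Agent.Lib.Helper79.LW.pkgCntT
theorem allCntH : PkgCntH.{u} := Cfsg.Agent.Lib.Helper79.LW.pkgCntH
theorem allExt : PkgExt.{u} := Cfsg.Agent.Lib.Helper46.LW.pkgExt
theorem allFree : PkgFree.{u} := Cfsg.Agent.Lib.Helper46.LW.pkgFree
theorem allNT : PkgNT.{u} := Cfsg.Agent.Lib.Helper46.LW.pkgNT
theorem allTransp : PkgTransp.{u} := Cfsg.Agent.Lib.Helper46.LW.pkgTransp allExt
theorem allInvert : PkgInvert.{u} := Cfsg.Agent.Lib.Helper29.LW.pkgInvert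
theorem allAbs1a : PkgAbs1a.{u} := Cfsg.Agent.Lib.Helper84.LW.pkgAbs1a
theorem allAbs1b : PkgAbs1b.{u} := Cfsg.Agent.Lib.Helper84.LW.pkgAbs1b
theorem allAbs2 : PkgAbs2.{u} := Cfsg.Agent.Lib.Helper29.LW.pkgAbs2
theorem allAbs3 : PkgAbs3.{u} := Cfsg.Agent.Lib.Helper29.LW.pkgAbs3
theorem allKer : PkgKer.{u} := Cfsg.Agent.Lib.Helper69.LW.pkgKer
theorem allR1 : PkgR1.{u} := Cfsg.Agent.Lib.Helper29.LW.pkgR1 allBrT
theorem allR2 : PkgR2.{u} := pkgR2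
theorem allK3 : PkgK3.{u} := Cfsg.Agent.Lib.Helper38.LW.pkgK3 allCntH
theorem allK4 : PkgK4.{u} :=
  Cfsg.Agent.Lib.Helper38.LW.pkgK4 allCntT allCntH allFree allNT allTransp
theorem allK524 : PkgK524.{u} := Cfsg.Agent.Lib.Helper59.LW.pkgK524 allCntT allMono
theorem allK5 : PkgK5.{u} :=
  Cfsg.Agent.Lib.Helper59.LW.pkgK5 allCntT allCntH allFree allNT allTransp allK524
theorem allSharp : PkgSharp.{u} := Cfsg.Agent.Lib.Helper29.LW.pkgSharp
theorem allPar : PkgPar.{u} := Cfsg.Agent.Lib.Helper64.LW.pkgPar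
theorem allEven : PkgEven.{u} := Cfsg.Agent.Lib.Helper64.LW.pkgEven allInvert
theorem allOdd : PkgOdd.{u} :=
  Cfsg.Agent.Lib.Helper64.LW.pkgOdd allAbs1a allAbs1b allAbs2 allAbs3 allFree
theorem allSemi : PkgSemi.{u} := pkgSemi_of allExt allKer allTransp allPar allEven allOdd
theorem allRigid : PkgRigid.{u} := pkgRigid_of allR1 allR2 allK3 allK4 allK5 allSharp allSemi
theorem allMain : PkgMain.{u} := Cfsg.Agent.Lib.Helper29.LW.pkgMain allBrT allBrH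

end Cfsg.Agent.Lib.Helper75.LW
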