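import Mathlib
import Cfsg.Agent.Lib.Helper75.LW.All
import Cfsg.Agent.Lib.Helper75.LW.Defs45

/-!
# S0745 (project LW45): package [CASES] and the assembly
-/

set_option autoImplicit false

namespace Cfsg.Agent.Lib.Helper75.LW

universe u

section

variable {α : Type u} [Fintype α] [DecidableEq α]

theorem card_compl_subtype (S : Finset α) :
    Fintype.card {a : α // a ∉ S} = Fintype.card α - S.card := by
  rw [Fintype.card_subtype_compl, Fintype.card_coe]

theorem descFactorial_pos_of_le (n t : ℕ) (h : t ≤ n) : 0 < n.descFactorial t := by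
  rw [Nat.pos_iff_ne_zero, Ne, Nat.descFactorial_eq_zero_iff_lt]
  omega

theorem triv_of_card_one (G : Subgroup (Equiv.Perm α)) (t : ℕ) (hT : HT G t) (Λ : Finset α)
    (hΛ : Λ.card = t) (h1 : Nat.card (PS G Λ) = 1) : Triv G t := by
  intro s hs g hg hfix
  have e1 := allCntT G t Λ hΛ hT
  have e2 := allCntT G t s hs hT
  have htn : t ≤ Fintype.card α := by rw [← hΛ]; exact Finset.card_le_univ _
  have hpos := descFactorial_pos_of_le _ t htn
  rw [h1] at e1
  have h2 : Nat.card (PS G s) = 1 := by
    have := e2.symm.trans e1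
    exact Nat.eq_of_mul_eq_mul_left hpos this
  have h3 := Subgroup.eq_bot_of_card_eq _ h2
  have hmem : g ∈ PS G s := ⟨hg, hfix⟩
  rw [h3] at hmem
  exact Subgroup.mem_bot.1 hmem

theorem card_one_of_triv (G : Subgroup (Equiv.Perm α)) (t : ℕ) (htriv : Triv G t) (Λ : Finset α)
    (hΛ : Λ.card = t) : Nat.card (PS G Λ) = 1 := by
  have : PS G Λ = ⊥ := by
    rw [Subgroup.eq_bot_iff_forall]
    intro g hg
    exact htriv Λ hΛ g hg.1 hg.2
  rw [this]
  exact Subgroup.card_bot

theorem odd_card_PS (G : Subgroup (Equiv.Perm α)) (t : ℕ) (hnoinv : NoInv G t) (Λ : Finset α)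
    (hΛ : Λ.card = t) : Odd (Nat.card (PS G Λ)) := by
  by_contra hne
  rw [Nat.not_odd_iff_even] at hne
  have h2 : 2 ∣ Nat.card (PS G Λ) := hne.two_dvd
  have : Fact (Nat.Prime 2) := ⟨Nat.prime_two⟩
  obtain ⟨x, hx⟩ := exists_prime_orderOf_dvd_card' 2 h2
  have hx1 : (x : Equiv.Perm α) = 1 := by
    apply hnoinv Λ hΛ x x.2.1 ?_ x.2.2
    have h3 : x ^ 2 = 1 := by rw [← hx]; exact pow_orderOf_eq_one x
    have h4 := congrArg Subtype.val h3
    simpa [pow_two] using h4
  have h5 : x = 1 := Subtype.ext hx1
  rw [h5, orderOf_one] at hx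
  omega

end

/-- [CASES] -/
theorem pkgCases (hR1' : PkgR1'.{u}) (hR2' : PkgR2'.{u}) (hRes : PkgRes.{u}) (hJ4 : PkgJ4.{u})
    (hE79 : PkgE79.{u}) (hE13 : PkgE13.{u}) (hE7 : PkgE7.{u}) (hAlt : PkgAlt.{u}) :
    PkgCases.{u} := by
  intro α _ _ G k hr hlt
  have htriv1 := hR1' G k hr
  have hnoinv1 := hR2' G k hr htriv1
  have hk3 := hr.k3
  obtain ⟨t, rfl⟩ : ∃ t, k = t + 2 := ⟨k - 2, by omega⟩
  have ht1 : 1 ≤ t := by omega
  have e2 : t + 2 - 2 = t := by omega
  have e1 : t + 2 - 1 = t + 1 := by omega
  have hT : HT G t := by have := hr.tr; rwa [e2] at this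
  have hntr : ¬ HT G (t + 1) := by have := hr.ntr; rwa [e1] at this
  have hH1 : HH G (t + 1) := by have := hr.h1; rwa [e1] at this
  have htriv : Triv G (t + 1) := by rwa [e1] at htriv1
  have hnoinv : NoInv G t := by rwa [e2] at hnoinv1
  have hkn : t + 2 ≤ Fintype.card α := hr.kn
  obtain ⟨Λ, -, hΛ⟩ := Finset.exists_subset_card_eq
    (show t ≤ (Finset.univ : Finset α).card by rw [Finset.card_univ]; omega)
  obtain ⟨Δ', -, hΔ'⟩ := Finset.exists_subset_card_eq
    (show t + 1 ≤ (Finset.univ : Finset α).card by rw [Finset.card_univ]; omega)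
  have hfree : Nat.card (PS G Λ) ∣ Fintype.card α - t := by
    have := allFree G Λ (by rw [hΛ]; exact htriv)
    rwa [hΛ] at this
  have hnt : Nat.card (PS G Λ) ≠ Fintype.card α - t := allNT G t Λ hΛ hT htriv hntr
  have hodd : Odd (Nat.card (PS G Λ)) := odd_card_PS G t hnoinv Λ hΛ
  have hG : Nat.card G = (Fintype.card α).descFactorial t * Nat.card (PS G Λ) :=
    allCntT G t Λ hΛ hT
  have hG' : Nat.card G = (Fintype.card α).choose (t + 1) * Nat.card (SS G Δ') :=
    allCntH G (t + 1) Δ' hΔ' hH1
  have hpos := descFactorial_pos_of_le (Fintype.card α) t (by omega)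
  obtain ⟨r, hr'⟩ := hfree
  -- generalise
  generalize hc : Nat.card (PS G Λ) = c at *
  generalize hd' : Nat.card (SS G Δ') = d' at *
  have hcpos : 0 < c := by
    rcases hodd with ⟨m, hm⟩; omega
  have hr2 : 2 ≤ r := by
    rcases Nat.lt_or_ge r 2 with h | h
    · interval_cases r
      · omega
      · exact absurd (by omega) hnt
    · exact h
  -- (t+1)! = r * d'
  have hfac : (t + 1).factorial = r * d' := by
    have h1 : (Fintype.card α).descFactorial (t + 1)
        = (Fintype.card α - t) * (Fintype.card α).descFactorial t := Nat.descFactorial_succ _ _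
    have h2 : (Fintype.card α).descFactorial (t + 1)
        = (t + 1).factorial * (Fintype.card α).choose (t + 1) :=
      Nat.descFactorial_eq_factorial_mul_choose _ _
    have h3 : (Fintype.card α).descFactorial t * c
        = (Fintype.card α).choose (t + 1) * d' := hG.symm.trans hG'
    have h4 : ((Fintype.card α).descFactorial t * c) * (t + 1).factorial
        = ((Fintype.card α).descFactorial t * c) * (r * d') := by
      calc ((Fintype.card α).descFactorial t * c) * (t + 1).factorial
          = ((Fintype.card α).choose (t + 1) * d') * (t + 1).factorial := by rw [h3]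
        _ = ((t + 1).factorial * (Fintype.card α).choose (t + 1)) * d' := by ring
        _ = ((Fintype.card α - t) * (Fintype.card α).descFactorial t) * d' := by rw [← h2, h1]
        _ = ((Fintype.card α).descFactorial t * c) * (r * d') := by rw [hr']; ring
    exact Nat.eq_of_mul_eq_mul_left (Nat.mul_pos hpos hcpos) h4
  generalize hn : Fintype.card α = n at *
  -- the case k = n
  rcases Nat.eq_or_lt_of_le hkn with hkn' | hkn'
  · left
    refine ⟨by omega, ?_⟩
    apply hAlt
    have h2 : n - t = 2 := by omega
    have hc1 : c = 1 := by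
      rw [h2] at hr'
      rcases hodd with ⟨m, hm⟩
      subst hm
      rcases m with _ | m
      · rfl
      · nlinarith
    have h3 := Nat.factorial_mul_descFactorial (show t ≤ n by omega)
    rw [h2] at h3
    rw [hn, hG, hc1, ← h3]
    simp [Nat.factorial]
    ring
  · right
    have hn3 : t + 3 ≤ n := by omega
    by_cases ht4 : 4 ≤ t
    · exfalso
      by_cases hc1 : c = 1
      · -- sharply t-transitive
        have htrivt : Triv G t := triv_of_card_one G t hT Λ hΛ (hc.trans hc1)
        have hrn : r = n - t := by rw [hr', hc1, one_mul]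
        have hr3 : 3 ≤ r := by omega
        obtain ⟨S4, -, hS4⟩ := Finset.exists_subset_card_eq
          (show t - 4 ≤ (Finset.univ : Finset α).card by rw [Finset.card_univ]; omega)
        have e4 : S4.card + 4 = t := by omega
        obtain ⟨L, hL1, hL2⟩ := hRes G S4 4 (by rw [e4]; exact hT) (by rw [e4]; exact htrivt)
        have hcardβ : Fintype.card {a : α // a ∉ S4} = r + 4 := by
          rw [card_compl_subtype, hS4, hn]; omega
        obtain ⟨hj1, hj2⟩ := hJ4 L hL1 hL2
        rw [hcardβ] at hj1 hj2
        have hr_odd : ¬ Even (r + 4) := fun h => by have := hj2 h; omega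
        have hr357 : r = 3 ∨ r = 5 ∨ r = 7 := by
          have h7 : r ≤ 7 := by omega
          interval_cases r
          · left; rfl
          · exact absurd (by decide) hr_odd
          · right; left; rfl
          · exact absurd (by decide) hr_odd
          · right; right; rfl
        rcases hr357 with h | h | h
        · exact hE79 L hL1 hL2 (Or.inl (by rw [hcardβ, h]))
        · exact hE79 L hL1 hL2 (Or.inr (by rw [hcardβ, h]))
        · -- r = 7
          have h7 : 7 ∣ (t + 1).factorial := by rw [hfac, h]; exact Dvd.intro _ rfl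
          have ht6 : 7 ≤ t + 1 := (Nat.Prime.dvd_factorial (by norm_num)).1 h7
          obtain ⟨S6, -, hS6⟩ := Finset.exists_subset_card_eq
            (show t - 6 ≤ (Finset.univ : Finset α).card by rw [Finset.card_univ]; omega)
          have e6 : S6.card + 6 = t := by omega
          obtain ⟨L6, hL61, hL62⟩ := hRes G S6 6 (by rw [e6]; exact hT)
            (by rw [e6]; exact htrivt)
          have hcardβ6 : Fintype.card {a : α // a ∉ S6} = 13 := by
            rw [card_compl_subtype, hS6, hn]; omega
          exact hE13 L6 hL61 hL62 hcardβ6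
      · -- nontrivial odd stabiliser
        have hnt' : ¬ Triv G t := fun h => hc1 (by rw [← hc]; exact card_one_of_triv G t h Λ hΛ)
        have hc3 : 3 ≤ c := by
          rcases hodd with ⟨m, hm⟩; omega
        have h6 : 6 ≤ n - t := by rw [hr']; nlinarith
        exact allSemi G t ht4 hT htriv hnoinv hnt' (by rw [hn]; omega)
    · -- t ≤ 3
      have hcle : c ≤ n - t := by rw [hr']; nlinarith
      have hrle : r ≤ n - t := by rw [hr']; nlinarith
      have ht3 : t ≤ 3 := by omega
      interval_cases t
      · -- t = 1, n ∈ {4, 5}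
        exfalso
        have hn' : n = 4 ∨ n = 5 := by omega
        have hf : (1 + 1).factorial = 2 := by decide
        rw [hf] at hfac
        have : r = 2 := by
          have : r ∣ 2 := Dvd.intro _ hfac.symm
          have := Nat.le_of_dvd (by norm_num) this
          omega
        subst this
        rcases hodd with ⟨m, hm⟩
        omega
      · -- t = 2, n ∈ {5, 6, 7}
        have hf : (2 + 1).factorial = 6 := by decide
        rw [hf] at hfac
        have hn' : n = 5 ∨ n = 6 ∨ n = 7 := by omega
        rcases hodd with ⟨m, hm⟩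
        rcases hn' with rfl | rfl | rfl
        · left
          have hc1 : c = 1 := by
            have : c ≤ 3 := hcle
            interval_cases c <;> omega
          refine ⟨rfl, rfl, ?_⟩
          rw [hG, hc1]; decide
        · exfalso
          have : c ≤ 4 := hcle
          have : r ≤ 4 := hrle
          interval_cases c <;> interval_cases r <;> omega
        · exfalso
          have : c ≤ 5 := hcle
          have : r ≤ 5 := hrle
          interval_cases c <;> interval_cases r <;> omega
      · -- t = 3, n ∈ {6, 7, 8, 9}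
        have hf : (3 + 1).factorial = 24 := by decide
        rw [hf] at hfac
        have hn' : n = 6 ∨ n = 7 ∨ n = 8 ∨ n = 9 := by omega
        rcases hodd with ⟨m, hm⟩
        rcases hn' with rfl | rfl | rfl | rfl
        · right; left
          have hc1 : c = 1 := by
            have : c ≤ 3 := hcle
            interval_cases c <;> omega
          refine ⟨rfl, rfl, ?_⟩
          rw [hG, hc1]; decide
        · exfalso
          have hc1 : c = 1 := by
            have : c ≤ 4 := hcle
            have : r ≤ 4 := hrle
            interval_cases c <;> interval_cases r <;> omega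
          rw [hc1] at hc
          exact hE7 G hT (triv_of_card_one G 3 hT Λ hΛ hc) hn
        · exfalso
          have : c ≤ 5 := hcle
          have : r ≤ 5 := hrle
          interval_cases c <;> interval_cases r <;> omega
        · right; right
          have hc13 : c = 1 ∨ c = 3 := by
            have : c ≤ 6 := hcle
            have : r ≤ 6 := hrle
            interval_cases c <;> interval_cases r <;> omega
          refine ⟨rfl, rfl, ?_⟩
          rcases hc13 with h | h
          · left; rw [hG, h]; decide
          · right; rw [hG, h]; decide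

/-- the assembly of S0745 -/
theorem s0745_of (hCases : PkgCases.{u}) {α : Type u} [Fintype α] [DecidableEq α]
    (G : Subgroup (Equiv.Perm α)) {k : ℕ} (hk : 3 ≤ k) (hkn : k ≤ Fintype.card α)
    (ht : MulAction.IsMultiplyPretransitive G α (k - 2))
    (hnt : ¬ MulAction.IsMultiplyPretransitive G α (k - 1))
    (hh1 : MulAction.IsPretransitive G (Set.powersetCard α (k - 1)))
    (hh : MulAction.IsPretransitive G (Set.powersetCard α k)) :
    (k = Fintype.card α ∧ G = alternatingGroup α) ∨
    (Fintype.card α = 5 ∧ k = 4 ∧ Nat.card G = 20) ∨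
    (Fintype.card α = 6 ∧ k = 5 ∧ Nat.card G = 120) ∨
    (Fintype.card α = 9 ∧ k = 5 ∧ (Nat.card G = 504 ∨ Nat.card G = 1512)) := by
  have hT : HT G (k - 2) := (allBrT G (k - 2)).1 ht
  have hnT : ¬ HT G (k - 1) := fun h => hnt ((allBrT G (k - 1)).2 h)
  have hH1 : HH G (k - 1) := (allBrH G (k - 1)).1 hh1
  have hH : HH G k := (allBrH G k).1 hh
  by_cases h2k : 2 * k ≤ Fintype.card α
  · exact (allRigid G k ⟨hk, h2k, hT, hnT, hH1, hH⟩).elim
  · exact hCases G k ⟨hk, hkn, hT, hnT, hH1, hH⟩ (by omega)

end Cfsg.Agent.Lib.Helper75.LW
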