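import Mathlib
import Cfsg.Agent.Lib.Helper75.LW.R2
import Cfsg.Agent.Lib.Helper75.LW.Defs45

/-!
# S0745 (project LW45): package [R2'] (the proof of [R2] does not use `2k ≤ n`)
-/

set_option autoImplicit false

namespace Cfsg.Agent.Lib.Helper75.LW

universe u

/-- [R2'] -/
theorem pkgR2' : PkgR2'.{u} := by
  intro α _ _ G k hr htriv s hs u huG hu2 hus
  by_contra hu1
  have hk3 := hr.k3
  obtain ⟨t, rfl⟩ : ∃ t, k = t + 2 := ⟨k - 2, by omega⟩
  have e2 : t + 2 - 2 = t := by omega
  have e1 : t + 2 - 1 = t + 1 := by omega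
  rw [e2] at hs
  have hT : HT G t := by have := hr.tr; rwa [e2] at this
  have htriv' : Triv G (t + 1) := by rwa [e1] at htriv
  have hH : HH G (t + 1) := by have := hr.h1; rwa [e1] at this
  have hntr : ¬ HT G (t + 1) := by have := hr.ntr; rwa [e1] at this
  apply hntr
  have ha := r2_a G t hT s hs u huG hu2 hu1 hus
  have hb := fun Λ₀ hΛ₀ x v hx hv hxv => r2_b G t ha htriv' Λ₀ hΛ₀ x v hx hv hxv
  intro x y
  obtain ⟨g, hgG, hg⟩ := hH (Finset.univ.map x) (Finset.univ.map y) (by simp) (by simp)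
  have h1 : ∀ i, ∃ j, y j = g (x i) := by
    intro i
    have := (hg (x i)).1 (by simp)
    simpa using this
  choose π hπ using h1
  have hπinj : Function.Injective π := by
    intro i j hij
    have h2 : g (x i) = g (x j) := by rw [← hπ i, ← hπ j, hij]
    exact x.injective (g.injective h2)
  have hπbij : Function.Bijective π := Finite.injective_iff_bijective.1 hπinj
  obtain ⟨h, hhG, hh⟩ := r2_c G t hb y (Equiv.ofBijective π hπbij).symm
  refine ⟨h * g, G.mul_mem hhG hgG, fun i => ?_⟩
  rw [Equiv.Perm.mul_apply, ← hπ i, hh]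
  congr 1
  exact (Equiv.ofBijective π hπbij).symm_apply_apply i

end Cfsg.Agent.Lib.Helper75.LW
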