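import Mathlib
import Cfsg.Agent.Lib.Helper75.LW.Cases
import Cfsg.Agent.Lib.Helper75.LW.R2p
import Cfsg.Agent.Lib.Helper35.LW.Alt
import Cfsg.Agent.Lib.Helper35.LW.E13
import Cfsg.Agent.Lib.Helper35.LW.J4
import Cfsg.Agent.Lib.Helper38.LW.R1p
import Cfsg.Agent.Lib.Helper59.LW.E7
import Cfsg.Agent.Lib.Helper74.LW.E79
import Cfsg.Agent.Lib.Helper74.LW.U
import Cfsg.Agent.Lib.Helper93.LW.Res

/-!
# S0745 (project LW45): all packages, hypothesis-free
-/

set_option autoImplicit false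

namespace Cfsg.Agent.Lib.Helper75.LW

universe u

theorem allR1' : PkgR1'.{u} := Cfsg.Agent.Lib.Helper38.LW.pkgR1' allBrT
theorem allR2' : PkgR2'.{u} := pkgR2'
theorem allRes : PkgRes.{u} := Cfsg.Agent.Lib.Helper93.LW.pkgRes
theorem allJ4 : PkgJ4.{u} := Cfsg.Agent.Lib.Helper35.LW.pkgJ4 allBrT
theorem allU : PkgU.{u} := Cfsg.Agent.Lib.Helper74.LW.pkgU allKer allInvert
theorem allE79 : PkgE79.{u} := Cfsg.Agent.Lib.Helper74.LW.pkgE79 allU allExt allMono allCntT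
theorem allE13 : PkgE13.{u} := Cfsg.Agent.Lib.Helper35.LW.pkgE13 allCntT allMono
theorem allE7 : PkgE7.{u} := Cfsg.Agent.Lib.Helper59.LW.pkgE7 allKer allCntT allMono allExt
theorem allAlt : PkgAlt.{u} := Cfsg.Agent.Lib.Helper35.LW.pkgAlt
theorem allCases : PkgCases.{u} :=
  pkgCases allR1' allR2' allRes allJ4 allE79 allE13 allE7 allAlt

end Cfsg.Agent.Lib.Helper75.LW
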